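import Mathlib
import Cfsg.Agent.Classical.SL

set_option autoImplicit false
set_option linter.unusedVariables false
set_option linter.unusedSimpArgs false

/-! The special linear group of a space, its transvections, and centres in an overgroup. -/

namespace Cfsg.Lib.Classical

universe u v

variable {F : Type u} [Field F] {V : Type v} [AddCommGroup V] [Module F V]

/-- The linear automorphisms of determinant one. -/
noncomputable def slGroup (F : Type u) [Field F] (V : Type v) [AddCommGroup V] [Module F V] :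
    Subgroup (V ≃ₗ[F] V) := (LinearEquiv.det : (V ≃ₗ[F] V) →* Fˣ).ker

/-- A transvection as an element of `slGroup`. -/
noncomputable def slT (φ : Module.Dual F V) (v : V) (h : φ v = 0) : slGroup F V :=
  ⟨LinearEquiv.transvection h, LinearEquiv.transvection.det_eq_one h⟩

theorem slT_apply (φ : Module.Dual F V) (v : V) (h : φ v = 0) (x : V) :
    (slT φ v h : V ≃ₗ[F] V) x = x + φ x • v := LinearEquiv.transvection.apply h x

theorem slGroup.ext' {g h : slGroup F V} (H : ∀ x, (g : V ≃ₗ[F] V) x = (h : V ≃ₗ[F] V) x) : g = h :=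
  Subtype.ext (LinearEquiv.ext H)

theorem slGroup.mul_apply' (g h : slGroup F V) (x : V) :
    ((g * h : slGroup F V) : V ≃ₗ[F] V) x = (g : V ≃ₗ[F] V) ((h : V ≃ₗ[F] V) x) := rfl

theorem slGroup.inv_apply_self (g : slGroup F V) (x : V) :
    ((g⁻¹ : slGroup F V) : V ≃ₗ[F] V) ((g : V ≃ₗ[F] V) x) = x :=
  (g : V ≃ₗ[F] V).symm_apply_apply x

theorem slGroup.apply_inv_self (g : slGroup F V) (x : V) :
    (g : V ≃ₗ[F] V) (((g⁻¹ : slGroup F V) : V ≃ₗ[F] V) x) = x :=
  (g : V ≃ₗ[F] V).apply_symm_apply x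

theorem slT_congr {φ ψ : Module.Dual F V} {v w : V} {h : φ v = 0} {h' : ψ w = 0}
    (e : ∀ x, φ x • v = ψ x • w) : slT φ v h = slT ψ w h' :=
  slGroup.ext' fun x => by rw [slT_apply, slT_apply, e]

theorem slT_mul (φ ψ : Module.Dual F V) (v : V) (h : φ v = 0) (h' : ψ v = 0) :
    slT (φ + ψ) v (by simp [h, h']) = slT φ v h * slT ψ v h' :=
  slGroup.ext' fun x => by
    rw [slGroup.mul_apply']
    simp only [slT_apply, map_add, map_smul, LinearMap.add_apply, h, h', smul_zero, add_zero]
    module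

theorem slT_conj (g : slGroup F V) (φ : Module.Dual F V) (v : V) (h : φ v = 0) :
    g * slT φ v h * g⁻¹ = slT (φ ∘ₗ ((g⁻¹ : slGroup F V) : V ≃ₗ[F] V).toLinearMap) ((g : V ≃ₗ[F] V) v)
      (by simpa [slGroup.inv_apply_self] using h) :=
  slGroup.ext' fun x => by
    rw [slGroup.mul_apply', slGroup.mul_apply', slT_apply, slT_apply, map_add, map_smul,
      slGroup.apply_inv_self]
    rfl

/-- Vectors whose whole transvection group lies in `H`. -/
def slCentres (H : Subgroup (slGroup F V)) : Set V := {v | ∀ φ h, slT φ v h ∈ H}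

theorem slCentres_zero (H : Subgroup (slGroup F V)) : (0 : V) ∈ slCentres H := fun φ h => by
  rw [show slT φ 0 h = 1 from slGroup.ext' fun x => by rw [slT_apply, smul_zero, add_zero]; rfl]
  exact H.one_mem

theorem slCentres_smul {H : Subgroup (slGroup F V)} {v : V} (hv : v ∈ slCentres H) (a : F) :
    a • v ∈ slCentres H := fun φ h => by
  have h' : (a • φ) v = 0 := by simpa [map_smul] using h
  rw [slT_congr (ψ := a • φ) (w := v) (h' := h') fun x => by
    rw [LinearMap.smul_apply, smul_smul, smul_eq_mul, mul_comm]]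
  exact hv _ h'

theorem slCentres_map {H : Subgroup (slGroup F V)} {v : V} (hv : v ∈ slCentres H) {g : slGroup F V}
    (hg : g ∈ H) : (g : V ≃ₗ[F] V) v ∈ slCentres H := fun φ h => by
  have h' : (φ ∘ₗ (g : V ≃ₗ[F] V).toLinearMap) v = 0 := by simpa using h
  have := H.mul_mem (H.mul_mem hg (hv _ h')) (H.inv_mem hg)
  rw [slT_conj] at this
  convert this using 2
  ext x
  simp [slGroup.apply_inv_self]

/-- The matrix special linear group acting through a basis. -/
noncomputable def slOfBasis {ι : Type*} [Fintype ι] [DecidableEq ι] (b : Module.Basis ι F V) :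
    Matrix.SpecialLinearGroup ι F →* slGroup F V where
  toFun M := ⟨LinearEquiv.ofLinearMap (Matrix.toLin b b M.1) (Matrix.toLin b b (M⁻¹).1)
    (by rw [← Matrix.toLin_mul, ← Matrix.SpecialLinearGroup.coe_mul, mul_inv_cancel,
      Matrix.SpecialLinearGroup.coe_one, Matrix.toLin_one])
    (by rw [← Matrix.toLin_mul, ← Matrix.SpecialLinearGroup.coe_mul, inv_mul_cancel,
      Matrix.SpecialLinearGroup.coe_one, Matrix.toLin_one]), by
    rw [slGroup, MonoidHom.mem_ker]
    apply Units.ext
    rw [LinearEquiv.coe_det, Units.val_one]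
    change LinearMap.det (Matrix.toLin b b M.1) = 1
    rw [LinearMap.det_toLin, M.2]⟩
  map_one' := slGroup.ext' fun x => by simp [Matrix.toLin_one]
  map_mul' M N := slGroup.ext' fun x => by
    change Matrix.toLin b b (M * N).1 x = Matrix.toLin b b M.1 (Matrix.toLin b b N.1 x)
    rw [Matrix.SpecialLinearGroup.coe_mul, Matrix.toLin_mul b b b]
    rfl

theorem slGroup_eq_top_of_transvections [FiniteDimensional F V] {H : Subgroup (slGroup F V)}
    (h : ∀ v, v ∈ slCentres H) : H = ⊤ := by
  classical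
  let b := Module.finBasis F V
  have hsurj : ∀ g : slGroup F V, ∃ M, slOfBasis b M = g := fun g => by
    refine ⟨⟨LinearMap.toMatrix b b (g : V ≃ₗ[F] V).toLinearMap, ?_⟩, slGroup.ext' fun x => ?_⟩
    · rw [LinearMap.det_toMatrix]
      have := congrArg Units.val (MonoidHom.mem_ker.mp g.2)
      rwa [LinearEquiv.coe_det, Units.val_one] at this
    · change Matrix.toLin b b (LinearMap.toMatrix b b _) x = _
      rw [Matrix.toLin_toMatrix]
      rfl
  have htop : H.comap (slOfBasis b) = ⊤ := by
    refine eq_top_of_transvection_mem _ fun i j hij c => ?_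
    have h0 : (c • b.coord j) (b i) = 0 := by simp [hij]
    have e : slOfBasis b (Matrix.SpecialLinearGroup.transvection hij c) = slT (c • b.coord j) (b i) h0 :=
      slGroup.ext' fun x => by
        rw [slT_apply]
        change Matrix.toLin b b (Matrix.transvection i j c) x = _
        rw [Matrix.transvection, map_add, Matrix.toLin_one, LinearMap.add_apply, LinearMap.id_apply,
          add_right_inj, Matrix.toLin_apply]
        simp [Matrix.mulVec, dotProduct, Matrix.single_apply, Finset.sum_ite_eq, ite_and, ite_smul]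
    rw [Subgroup.mem_comap, e]
    exact h _ _ h0
  rw [eq_top_iff]
  intro g _
  obtain ⟨M, rfl⟩ := hsurj g
  exact Subgroup.mem_comap.mp (htop ▸ Subgroup.mem_top M)

theorem exists_dual_vanish {W : Submodule F V} {x : V} (hx : x ∉ W) :
    ∃ φ : Module.Dual F V, φ x = 1 ∧ ∀ w ∈ W, φ w = 0 := by
  obtain ⟨φ, hφx, hφW⟩ := Submodule.exists_dual_map_eq_bot_of_notMem hx inferInstance
  refine ⟨(φ x)⁻¹ • φ, by simp [hφx], fun w hw => ?_⟩
  have : φ w ∈ W.map φ := Submodule.mem_map_of_mem hw
  rw [hφW, Submodule.mem_bot] at this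
  simp [this]

/-- The stabiliser of a subspace in `slGroup`. -/
def slSubStabilizer (W : Submodule F V) : Subgroup (slGroup F V) where
  carrier := {g | ∀ x, x ∈ W ↔ (g : V ≃ₗ[F] V) x ∈ W}
  mul_mem' {a b} ha hb := fun x => by rw [slGroup.mul_apply']; exact (hb x).trans (ha _)
  one_mem' := fun x => Iff.rfl
  inv_mem' {a} ha := fun x => by
    conv_lhs => rw [← slGroup.apply_inv_self a x]
    exact (ha _).symm

theorem slT_mem_slSubStabilizer {W : Submodule F V} {φ : Module.Dual F V} {v : V} (h : φ v = 0)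
    (hW : v ∈ W ∨ ∀ w ∈ W, φ w = 0) : slT φ v h ∈ slSubStabilizer W := by
  intro x
  rw [slT_apply]
  rcases hW with hv | hW
  · exact (Submodule.add_mem_iff_left _ (W.smul_mem _ hv)).symm
  · constructor
    · intro hx; rwa [hW x hx, zero_smul, add_zero]
    · intro hx
      have h0 := hW _ hx
      rw [map_add, map_smul, h, smul_zero, add_zero] at h0
      rwa [h0, zero_smul, add_zero] at hx

theorem isCoatom_slSubStabilizer [FiniteDimensional F V] {W : Submodule F V} (hW0 : W ≠ ⊥)
    (hW1 : W ≠ ⊤) : IsCoatom (slSubStabilizer W) := by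
  obtain ⟨w₀, hw₀, hw₀0⟩ := Submodule.exists_mem_ne_zero_of_ne_bot hW0
  obtain ⟨z, -, hz⟩ := SetLike.exists_of_lt (lt_top_iff_ne_top.mpr hW1)
  refine ⟨fun htop => ?_, fun H hlt => ?_⟩
  · obtain ⟨φ, hφ, hφz⟩ := exists_dual_vanish (W := Submodule.span F {z}) (x := w₀) (fun h => by
      obtain ⟨r, hr⟩ := Submodule.mem_span_singleton.mp h
      rcases eq_or_ne r 0 with rfl | hr0
      · exact hw₀0 (by simpa using hr.symm)
      · exact hz ((W.smul_mem_iff hr0).mp (hr ▸ hw₀)))
    have hφ0 := hφz z (Submodule.mem_span_singleton_self z)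
    have h := ((htop ▸ Subgroup.mem_top (slT φ z hφ0) : _ ∈ slSubStabilizer W) w₀).mp hw₀
    rw [slT_apply, hφ, one_smul, Submodule.add_mem_iff_right _ hw₀] at h
    exact hz h
  have hWC : (W : Set V) ⊆ slCentres H := fun v hv φ h =>
    hlt.le (slT_mem_slSubStabilizer h (Or.inl hv))
  obtain ⟨g, hgH, hgM⟩ := SetLike.exists_of_lt hlt
  obtain ⟨x, hxW, hxC⟩ : ∃ x, x ∉ W ∧ x ∈ slCentres H := by
    by_contra hc
    push Not at hc
    have hle : W.map (g : V ≃ₗ[F] V).toLinearMap ≤ W := by
      rintro _ ⟨y, hy, rfl⟩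
      exact by_contra fun h => hc _ h (slCentres_map (hWC hy) hgH)
    have heq := Submodule.eq_of_le_of_finrank_le hle (by rw [LinearEquiv.finrank_map_eq])
    refine hgM fun y => ⟨fun hy => hle (Submodule.mem_map_of_mem hy), fun hy => ?_⟩
    rw [← heq] at hy
    obtain ⟨y', hy', he⟩ := hy
    exact (g : V ≃ₗ[F] V).injective he ▸ hy'
  refine slGroup_eq_top_of_transvections fun y => ?_
  have move : ∀ x y, x ∈ slCentres H → x ∉ W ⊔ Submodule.span F {y - x} → y ∈ slCentres H := by
    intro x y hx hxy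
    obtain ⟨φ, hφ, hφW⟩ := exists_dual_vanish hxy
    have h0 : φ (y - x) = 0 := hφW _ (Submodule.mem_sup_right (Submodule.mem_span_singleton_self _))
    have := slCentres_map hx (hlt.le (slT_mem_slSubStabilizer (W := W) h0
      (Or.inr fun w hw => hφW w (Submodule.mem_sup_left hw))))
    rwa [slT_apply, hφ, one_smul, add_sub_cancel] at this
  by_cases hyW : y ∈ W
  · exact hWC hyW
  by_cases hyx : x ∈ W ⊔ Submodule.span F {y - x}
  · obtain ⟨w, hw, u, hu, hxe⟩ := Submodule.mem_sup.mp hyx
    obtain ⟨a, rfl⟩ := Submodule.mem_span_singleton.mp hu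
    -- `y` is a multiple of `x` modulo `W`
    have ha : a ≠ 0 := fun h => hxW (by rw [← hxe, h, zero_smul, add_zero]; exact hw)
    have hy : y = ((1 + a) * a⁻¹) • x + (-a⁻¹) • w := by
      have h1 : a • y = (1 + a) • x - w := by
        rw [add_smul, one_smul]
        linear_combination (norm := module) hxe
      calc y = a⁻¹ • (a • y) := by rw [smul_smul, inv_mul_cancel₀ ha, one_smul]
        _ = _ := by rw [h1, smul_sub, smul_smul, neg_smul, ← sub_eq_add_neg, mul_comm]
    rcases eq_or_ne ((1 + a) * a⁻¹) 0 with hc | hc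
    · exact absurd (by rw [hy, hc, zero_smul, zero_add]; exact W.smul_mem _ hw) hyW
    obtain ⟨φ, hφ, hφW⟩ := exists_dual_vanish hxW
    have hw' := W.smul_mem (-a⁻¹) hw
    have h0 : (((1 + a) * a⁻¹)⁻¹ • φ) ((-a⁻¹) • w) = 0 := by
      rw [LinearMap.smul_apply, hφW _ hw', smul_zero]
    have := slCentres_map (slCentres_smul hxC ((1 + a) * a⁻¹))
      (hlt.le (slT_mem_slSubStabilizer (W := W) h0 (Or.inl hw')))
    rwa [slT_apply, LinearMap.smul_apply, map_smul, hφ, smul_eq_mul, smul_eq_mul, mul_one,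
      inv_mul_cancel₀ hc, one_smul, ← hy] at this
  · exact move x y hxC hyx

end Cfsg.Lib.Classical
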