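import Mathlib
import Cfsg.Agent.Classical.Transv.Basic
import Cfsg.Agent.Classical.Symp.Simple

set_option autoImplicit false
set_option linter.unusedVariables false
set_option linter.unusedSimpArgs false

/-! The symplectic similitudes form a maximal subgroup of the special linear group. -/

namespace Cfsg.Lib.Classical

universe u v

variable {F : Type u} [Field F] {V : Type v} [AddCommGroup V] [Module F V]
  {B : LinearMap.BilinForm F V}

/-- Similitudes of `B` inside `slGroup`. -/
noncomputable def slSimilitudes (B : LinearMap.BilinForm F V) : Subgroup (slGroup F V) where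
  carrier := {g | ∃ c : Fˣ, ∀ x y, B ((g : V ≃ₗ[F] V) x) ((g : V ≃ₗ[F] V) y) = c * B x y}
  mul_mem' := by
    rintro a b ⟨c, hc⟩ ⟨d, hd⟩
    exact ⟨c * d, fun x y => by rw [slGroup.mul_apply', slGroup.mul_apply', hc, hd, Units.val_mul, mul_assoc]⟩
  one_mem' := ⟨1, fun x y => by simp⟩
  inv_mem' := by
    rintro a ⟨c, hc⟩
    refine ⟨c⁻¹, fun x y => ?_⟩
    have := hc (((a⁻¹ : slGroup F V) : V ≃ₗ[F] V) x) (((a⁻¹ : slGroup F V) : V ≃ₗ[F] V) y)
    rw [slGroup.apply_inv_self, slGroup.apply_inv_self] at this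
    rw [this, ← mul_assoc, Units.inv_mul, one_mul]

/-- Isometries have determinant one. -/
theorem bilinIsom_le_slGroup [FiniteDimensional F V] (hA : B.IsAlt) (hB : B.Nondegenerate) :
    BilinIsom B ≤ slGroup F V := by
  have h : (⊤ : Subgroup (BilinIsom B)) ≤ (slGroup F V).comap (BilinIsom B).subtype := by
    rw [← transGroup_eq_top hA hB, transGroup, transGroupOn, Subgroup.closure_le]
    rintro _ ⟨v, -, c, rfl⟩
    have h0 : (c • B.flip v) v = 0 := by simp [hA v]
    have e : ((sympT hA v c : BilinIsom B) : V ≃ₗ[F] V) = LinearEquiv.transvection h0 :=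
      LinearEquiv.ext fun x => by rw [sympT_apply, LinearEquiv.transvection.apply]; simp
    change ((sympT hA v c : BilinIsom B) : V ≃ₗ[F] V) ∈ slGroup F V
    rw [e]
    exact LinearEquiv.transvection.det_eq_one h0
  intro g hg
  exact h (Subgroup.mem_top (⟨g, hg⟩ : BilinIsom B))

/-- An isometry as an element of `slGroup`. -/
noncomputable def isomToSL [FiniteDimensional F V] (hA : B.IsAlt) (hB : B.Nondegenerate) :
    BilinIsom B →* slGroup F V :=
  Subgroup.inclusion (bilinIsom_le_slGroup hA hB)

theorem isomToSL_apply [FiniteDimensional F V] (hA : B.IsAlt) (hB : B.Nondegenerate) (g : BilinIsom B)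
    (x : V) : ((isomToSL hA hB g : slGroup F V) : V ≃ₗ[F] V) x = (g : V ≃ₗ[F] V) x := rfl

theorem isomToSL_mem_similitudes [FiniteDimensional F V] (hA : B.IsAlt) (hB : B.Nondegenerate)
    (g : BilinIsom B) : isomToSL hA hB g ∈ slSimilitudes B :=
  ⟨1, fun x y => by rw [isomToSL_apply, isomToSL_apply, BilinIsom.map_form, Units.val_one, one_mul]⟩

theorem isCoatom_slSimilitudes [FiniteDimensional F V] (hA : B.IsAlt) (hB : B.Nondegenerate)
    (hd : 4 ≤ Module.finrank F V) : IsCoatom (slSimilitudes B) := by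
  haveI : Nontrivial V := Module.nontrivial_of_finrank_pos (R := F) (by omega)
  have hr := hA.isRefl
  refine ⟨fun htop => ?_, fun H hlt => ?_⟩
  · -- a transvection that is not a similitude
    obtain ⟨v, hv⟩ := exists_ne (0 : V)
    obtain ⟨w, hwo, hwv⟩ := exists_orth_notMem hB (Submodule.span F {v})
      (by rw [finrank_span_singleton hv]; omega)
    have hvw : B v w = 0 := hwo v (Submodule.mem_span_singleton_self v)
    have hvwf : B.flip w v = 0 := hvw
    obtain ⟨c, hc⟩ := (htop ▸ Subgroup.mem_top (slT (B.flip w) v hvwf) : _ ∈ slSimilitudes B)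
    obtain ⟨d, hd1, hd2⟩ : ∃ d, B d w = 0 ∧ B v d = 1 := by
      obtain ⟨x, hx, hxv⟩ := exists_nonorth_of_notMem hA hB (Submodule.span F {w}) (x := v) (fun h => by
        obtain ⟨r, hr'⟩ := Submodule.mem_span_singleton.mp h
        rcases eq_or_ne r 0 with rfl | hr0
        · exact hv (by simpa using hr'.symm)
        · exact hwv (((Submodule.span F {v}).smul_mem_iff hr0).mp
            (by rw [hr']; exact Submodule.mem_span_singleton_self v)))
      refine ⟨(B v x)⁻¹ • x, ?_, by simp [hxv]⟩
      have h1 : B x w = 0 := hr _ _ (hx w (Submodule.mem_span_singleton_self w))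
      simp [h1]
    obtain ⟨e, he, he1⟩ : ∃ e, B e v = 0 ∧ B e w = 1 := by
      obtain ⟨x, hx, hxw⟩ := exists_nonorth_of_notMem hA hB (Submodule.span F {v}) hwv
      have h1 : B x v = 0 := hr _ _ (hx v (Submodule.mem_span_singleton_self v))
      have h2 : B x w ≠ 0 := fun h => hxw (hr _ _ h)
      exact ⟨(B x w)⁻¹ • x, by simp [h1], by simp [h2]⟩
    have hc1 : (c : F) = 1 := by
      have h := hc v d
      rw [slT_apply, slT_apply] at h
      simp only [LinearMap.BilinForm.flip_apply, hvw, hd1, zero_smul, add_zero, hd2, mul_one] at h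
      exact h.symm
    have h := hc e d
    rw [slT_apply, slT_apply, hc1, one_mul] at h
    simp [he1, hd1, map_add, LinearMap.add_apply, hd2] at h
  obtain ⟨g, hgH, hgM⟩ := SetLike.exists_of_lt hlt
  have hisom : ∀ p : BilinIsom B, isomToSL hA hB p ∈ H := fun p => hlt.le (isomToSL_mem_similitudes hA hB p)
  -- a transvection of `H` outside the symplectic group
  obtain ⟨v, hv, w, hvw, hwv, hT⟩ : ∃ v, v ≠ 0 ∧ ∃ w, ∃ hvw : B.flip w v = 0,
      w ∉ Submodule.span F ({v} : Set V) ∧ slT (B.flip w) v hvw ∈ H := by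
    by_contra hcon
    push Not at hcon
    have key : ∀ v : V, v ≠ 0 → ∃ μ : F, ∀ x, B x v = μ * B ((g : V ≃ₗ[F] V) x) ((g : V ≃ₗ[F] V) v) := by
      intro v hv
      set u := (g : V ≃ₗ[F] V) v with hu
      have h0 : ((1 : F) • B.flip v) v = 0 := by simp [hA v]
      have hT := H.mul_mem (H.mul_mem hgH (hisom (sympT hA v 1))) (H.inv_mem hgH)
      rw [show isomToSL hA hB (sympT hA v 1) = slT ((1 : F) • B.flip v) v h0 from slGroup.ext' fun x => by
        rw [isomToSL_apply, sympT_apply, slT_apply]; simp, slT_conj] at hT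
      set ψ : Module.Dual F V := ((1 : F) • B.flip v) ∘ₗ ((g⁻¹ : slGroup F V) : V ≃ₗ[F] V).toLinearMap with hψ
      set w := (LinearMap.BilinForm.toDual B.flip hB.flip).symm ψ with hw
      have hψw : ∀ x, ψ x = B x w := fun x =>
        (LinearMap.BilinForm.apply_toDual_symm_apply (B := B.flip) (hB := hB.flip) ψ x).symm
      have hBw : B.flip w u = 0 := by
        rw [LinearMap.BilinForm.flip_apply]
        rw [← hψw]
        simp [hψ, hu, slGroup.inv_apply_self, hA v]
      have hmem : slT (B.flip w) u hBw ∈ H := by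
        convert hT using 1
        exact slT_congr fun x => by rw [LinearMap.BilinForm.flip_apply, ← hψw]
      by_cases hspan : w ∈ Submodule.span F ({u} : Set V)
      · obtain ⟨μ, hμ⟩ := Submodule.mem_span_singleton.mp hspan
        refine ⟨μ, fun x => ?_⟩
        have := hψw ((g : V ≃ₗ[F] V) x)
        rw [← hμ, map_smul, smul_eq_mul] at this
        rw [← this]
        simp [hψ, slGroup.inv_apply_self]
      · exact absurd hmem (hcon u (by simpa [hu] using hv) w hBw hspan)
    apply hgM
    have hrev : ∀ v : V, v ≠ 0 → ∃ c : F, ∀ x, B ((g : V ≃ₗ[F] V) x) ((g : V ≃ₗ[F] V) v) = c * B x v := by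
      intro v hv
      obtain ⟨μ, hμ⟩ := key v hv
      refine ⟨μ⁻¹, fun x => ?_⟩
      have hμ0 : μ ≠ 0 := by
        rintro rfl
        obtain ⟨y, hy⟩ := exists_hyperbolic_partner hB hv
        have := hμ y
        rw [zero_mul] at this
        exact one_ne_zero (hy.symm.trans (hr _ _ this))
      rw [hμ x, ← mul_assoc, inv_mul_cancel₀ hμ0, one_mul]
    choose c hc using hrev
    have hceq : ∀ x v (hx : x ≠ 0) (hv : v ≠ 0), B x v ≠ 0 → c x hx = c v hv := fun x v hx hv hne => by
      have h1 := hc v hv x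
      have h2 := hc x hx v
      rw [← hA.neg_eq, h1, ← hA.neg_eq x v] at h2
      exact mul_right_cancel₀ hne (by linear_combination h2 : c x hx * B x v = c v hv * B x v) 
    have hconst : ∀ x v (hx : x ≠ 0) (hv : v ≠ 0), c x hx = c v hv := fun x v hx hv => by
      obtain ⟨p, hp⟩ := exists_hyperbolic_partner hB hx
      obtain ⟨p', hp'⟩ := exists_hyperbolic_partner hB hv
      obtain ⟨y, -, hy1, hy2⟩ := exists_mem_ne_zero_pair (D := (⊤ : Submodule F V)) (f := B x) (g := B v)
        ⟨p, trivial, by rw [hp]; exact one_ne_zero⟩ ⟨p', trivial, by rw [hp']; exact one_ne_zero⟩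
      have hy : y ≠ 0 := fun h => hy1 (by simp [h])
      exact (hceq x y hx hy hy1).trans (hceq v y hv hy hy2).symm
    obtain ⟨v₀, hv₀⟩ := exists_ne (0 : V)
    have hc0 : c v₀ hv₀ ≠ 0 := fun h => by
      obtain ⟨y, hy⟩ := exists_hyperbolic_partner hB (v := (g : V ≃ₗ[F] V) v₀) (by simpa using hv₀)
      have := hc v₀ hv₀ (((g⁻¹ : slGroup F V) : V ≃ₗ[F] V) y)
      rw [slGroup.apply_inv_self, h, zero_mul] at this
      exact one_ne_zero (hy.symm.trans (hr _ _ this))
    refine ⟨Units.mk0 _ hc0, fun x y => ?_⟩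
    rcases eq_or_ne y 0 with rfl | hy
    · simp
    rw [hc y hy x, Units.val_mk0, hconst y v₀ hy hv₀]
  -- then `v` is a centre, and by transitivity every vector
  have hv' : v ∈ slCentres H := by
    have hout : ∀ w', B v w' = 0 → w' ∉ Submodule.span F ({v} : Set V) →
        ∃ h : B.flip w' v = 0, slT (B.flip w') v h ∈ H := by
      intro w' hvw' hw'v
      obtain ⟨p, hp1, hp2⟩ := exists_point_map_orth hA hB hv hvw hvw' hwv hw'v
      refine ⟨hvw', ?_⟩
      have := H.mul_mem (H.mul_mem (hisom p) hT) (H.inv_mem (hisom p))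
      rw [slT_conj] at this
      convert this using 1
      refine slT_congr fun x => ?_
      rw [isomToSL_apply, hp1]
      congr 1
      change B x w' = B ((p⁻¹ : BilinIsom B).1 x) w
      rw [← BilinIsom.map_form p ((p⁻¹ : BilinIsom B).1 x) w, BilinIsom.apply_inv_self, hp2]
    intro φ hφ
    set w' := (LinearMap.BilinForm.toDual B.flip hB.flip).symm φ with hw'
    have hφw : ∀ x, φ x = B x w' := fun x =>
      (LinearMap.BilinForm.apply_toDual_symm_apply (B := B.flip) (hB := hB.flip) φ x).symm
    have hvw' : B.flip w' v = 0 := by rw [LinearMap.BilinForm.flip_apply, ← hφw, hφ]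
    have e : slT φ v hφ = slT (B.flip w') v hvw' :=
      slT_congr fun x => by rw [LinearMap.BilinForm.flip_apply, hφw]
    rw [e]
    by_cases hs : w' ∈ Submodule.span F ({v} : Set V)
    · have hsum : w + w' ∉ Submodule.span F ({v} : Set V) := fun h =>
        hwv ((Submodule.add_mem_iff_left _ hs).mp h)
      obtain ⟨h1, m1⟩ := hout (w + w') (by
        simp only [LinearMap.BilinForm.flip_apply] at hvw hvw'
        rw [map_add, hvw, hvw', add_zero]) hsum
      obtain ⟨h2, m2⟩ := hout w hvw hwv
      have : slT (B.flip w') v hvw' = (slT (B.flip w) v h2)⁻¹ * slT (B.flip (w + w')) v h1 := by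
        rw [eq_inv_mul_iff_mul_eq, ← slT_mul _ _ v h2 hvw']
        exact slT_congr fun x => by simp
      rw [this]
      exact H.mul_mem (H.inv_mem m2) m1
    · exact (hout w' hvw' hs).2
  refine slGroup_eq_top_of_transvections fun y => ?_
  rcases eq_or_ne y 0 with rfl | hy
  · exact slCentres_zero H
  obtain ⟨p, hp⟩ := sympIsom_transitive hA hB hv hy
  have := slCentres_map hv' (hisom p)
  rwa [isomToSL_apply, hp] at this

end Cfsg.Lib.Classical
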